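import Groth.Agent.FreeJ.Grothendieck
import Groth.Agent.S0458
import Groth.Agent.QC.Support
import Groth.Agent.QC.Coherent
import Groth.Agent.CohFinite.Tensor
import Groth.Agent.TopDim.Basic
import Groth.Prelude.Def_Curv2

/-!
# Modules with zero-dimensional support
-/

set_option autoImplicit false
set_option backward.isDefEq.respectTransparency false

universe u

open CategoryTheory CategoryTheory.Limits AlgebraicGeometry TopologicalSpace Opposite
open Groth.Agent.QC (res res_res)

namespace Groth.Agent.SuppZero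

variable {X : Scheme.{u}}

/-- Cohomology of a module supported on a closed Noetherian subset of dimension `≤ 0`. -/
theorem subsingleton_hh_of_supported [NoetherianSpace X] {Z : Set X} (hZ : IsClosed Z)
    (hdim : topologicalKrullDim Z ≤ 0) (M : X.Modules)
    (hM : ∀ x ∉ Z, x ∉ CohB1.support M) (p : ℕ) (hp : 1 ≤ p) : Subsingleton (Coh.HH X M p) := by
  let U : X.Opens := ⟨Zᶜ, hZ.isOpen_compl⟩
  refine Groth.Agent.FreeJ.subsingleton_H_of_support (X := X.toPresheafedSpace.carrier) (G := Coh.toAb M) U
    (fun x hx => not_not.1 (hM x hx)) p fun N => ?_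
  refine Groth.Agent.S0458.result (X := TopCat.of ((U : Set X)ᶜ : Set X)) 0 ?_ N p hp
  refine le_trans ?_ (le_of_le_of_eq hdim Nat.cast_zero.symm)
  exact (IsHomeomorph.topologicalKrullDim_eq _ (Homeomorph.setCongr (compl_compl Z)).isHomeomorph).le

/-- Twisting by an invertible module does not enlarge the support. -/
theorem notMem_support_tensorMod (M L : X.Modules) (hL : PicF.IsInvertible L) {x : X}
    (hx : x ∉ CohB1.support M) : x ∉ CohB1.support (CohB1.tensorMod M L) := by
  rw [Groth.Agent.QC.notMem_support_iff] at hx ⊢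
  intro U hxU s
  obtain ⟨V, hV, e, hxV, hgen⟩ := Groth.Agent.CohFinite.exists_gen_le hL hxU
  obtain ⟨m, hm⟩ := (TMul.tm_bijective (M := M) hgen V le_rfl).2 (res _ hV s)
  obtain ⟨W, hW, hxW, hW0⟩ := hx V hxV m
  refine ⟨W, hW.trans hV, hxW, ?_⟩
  rw [← res_res _ hW hV, ← hm, TMul.res_tm, hW0]
  exact TMul.zero_tm _

/-- If all subsets of the support are closed, every section extends to a global section. -/
theorem exists_extend_global (M : X.Modules) (hclosed : ∀ S : Set X, S ⊆ CohB1.support M → IsClosed S)
    (U : X.Opens) (s : Γ(M, U)) : ∃ a : Γ(M, ⊤), res M le_top a = s := by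
  let C : X.Opens := ⟨(CohB1.support M ∩ U)ᶜ, (hclosed _ Set.inter_subset_left).isOpen_compl⟩
  have hUC : ∀ (W : X.Opens) (h1 : W ≤ U) (_ : W ≤ C), res M h1 s = 0 :=
    fun W h1 h2 => Groth.Agent.QC.section_eq_of_locally fun y hy => by
      have hn : y ∉ CohB1.support M := fun h => h2 hy ⟨h, h1 hy⟩
      obtain ⟨W', hW', hyW', e⟩ := (Groth.Agent.QC.notMem_support_iff y).mp hn _ hy (res M h1 s)
      exact ⟨W', hW', hyW', e.trans (map_zero _).symm⟩
  obtain ⟨a, ha, -⟩ := TopCat.Sheaf.existsUnique_gluing' (Groth.Agent.QC.abSheaf M)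
    (fun b : Bool => if b then U else C) ⊤ (fun b => homOfLE le_top)
    (fun y _ => Opens.mem_iSup.mpr (by
      by_cases hy : y ∈ U
      · exact ⟨true, hy⟩
      · exact ⟨false, fun h => hy h.2⟩))
    (fun b => match b with | true => s | false => (0 : Γ(M, C)))
    (by
      rintro (_ | _) (_ | _)
      · rfl
      · exact (map_zero _).trans (hUC _ inf_le_right inf_le_left).symm
      · exact (hUC _ inf_le_left inf_le_right).trans (map_zero _).symm
      · rfl)
  exact ⟨a, ha true⟩

/-- Every subset of a zero-dimensional closed Noetherian subset is closed. -/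
theorem isClosed_of_subset [NoetherianSpace X] {Z : Set X} (hZ : IsClosed Z) (hdim : topologicalKrullDim Z ≤ 0)
    (S : Set X) (hS : S ⊆ Z) : IsClosed S := by
  haveI : DiscreteTopology Z := discreteTopology_iff_isOpen_singleton.mpr fun z =>
    Groth.Agent.TopDim.isOpen_singleton_of_dim_le_zero hdim z
  have h := hZ.isClosedEmbedding_subtypeVal.isClosedMap _ (isClosed_discrete (Subtype.val ⁻¹' S))
  rwa [Subtype.image_preimage_coe, Set.inter_eq_right.2 hS] at h

end Groth.Agent.SuppZero
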